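import Mathlib
import Cfsg.Agent.Lib.Helper44.FW.Defs

/-!
# Project FW (S3211): package [CNT]

Strictly more square roots of `j` than of `t₀ = x₀ (n x₀ n⁻¹)` in `C(j) ∩ C(t₀)`.
-/

set_option autoImplicit false

namespace Cfsg.Agent.Lib.Helper16.FW

open Cfsg.Agent.Lib.Helper44.FW

universe u

theorem mem_sup_comm {G : Type u} [Group G] {L₁ L₂ : Subgroup G}
    (hc : ∀ x ∈ L₁, ∀ y ∈ L₂, x * y = y * x) {r : G} (hr : r ∈ L₁ ⊔ L₂) :
    ∃ x ∈ L₁, ∃ y ∈ L₂, r = x * y := by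
  rw [Subgroup.sup_eq_closure] at hr
  induction hr using Subgroup.closure_induction with
  | mem z hz =>
    rcases hz with h | h
    · exact ⟨z, h, 1, one_mem _, (mul_one z).symm⟩
    · exact ⟨1, one_mem _, z, h, (one_mul z).symm⟩
  | one => exact ⟨1, one_mem _, 1, one_mem _, (mul_one 1).symm⟩
  | mul a b _ _ iha ihb =>
    obtain ⟨x, hx, y, hy, rfl⟩ := iha
    obtain ⟨x', hx', y', hy', rfl⟩ := ihb
    refine ⟨x * x', mul_mem hx hx', y * y', mul_mem hy hy', ?_⟩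
    have e := hc x' hx' y hy
    calc x * y * (x' * y') = x * (y * x') * y' := by group
      _ = x * (x' * y) * y' := by rw [e]
      _ = x * x' * (y * y') := by group
  | inv a _ iha =>
    obtain ⟨x, hx, y, hy, rfl⟩ := iha
    refine ⟨x⁻¹, inv_mem hx, y⁻¹, inv_mem hy, ?_⟩
    rw [mul_inv_rev]
    exact (hc x⁻¹ (inv_mem hx) y⁻¹ (inv_mem hy)).symm

theorem sq_eq_one_of_mem_zpowers {G : Type u} [Group G] {j z : G} (hj2 : j ^ 2 = 1)
    (h : z ∈ Subgroup.zpowers j) : z ^ 2 = 1 := by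
  obtain ⟨k, hk⟩ := Subgroup.mem_zpowers_iff.mp h
  rw [← hk, ← zpow_natCast, ← zpow_mul, mul_comm, zpow_mul, zpow_natCast, hj2, one_zpow]

/-- [CNT] the count. -/
theorem pkgCnt : PkgCnt.{u} := by
  classical
  intro G _ _ L₁ L₂ j n cfg x₀ hx₀ hx₀sq hCY hPhi
  haveI : Fintype G := Fintype.ofFinite G
  obtain ⟨a, b, hab⟩ := hCY
  set y₀ := n * x₀ * n⁻¹ with hy₀
  have hj2 : j ^ 2 = 1 := by rw [← cfg.ord]; exact pow_orderOf_eq_one j
  have hj1 : j ≠ 1 := by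
    intro h
    have := cfg.ord
    rw [h, orderOf_one] at this
    norm_num at this
  have hjinv : j⁻¹ = j := by rw [inv_eq_iff_mul_eq_one, ← sq]; exact hj2
  have hxj : Commute x₀ j := hx₀sq ▸ (Commute.refl x₀).pow_right 2
  have hnj : Commute n j := cfg.hn2 ▸ (Commute.refl n).pow_right 2
  have hy₀L₂ : y₀ ∈ L₂ := by
    have h1 : (MulAut.conj n).toMonoidHom x₀ ∈ L₁.map (MulAut.conj n).toMonoidHom :=
      Subgroup.mem_map_of_mem _ hx₀
    rw [cfg.swap] at h1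
    exact h1
  have hy₀sq : y₀ ^ 2 = j := by
    rw [hy₀, conj_pow, hx₀sq, hnj.eq, mul_inv_cancel_right]
  have hyj : Commute y₀ j := hy₀sq ▸ (Commute.refl y₀).pow_right 2
  have hxy : Commute x₀ y₀ := cfg.comm x₀ hx₀ y₀ hy₀L₂
  have hxt : Commute x₀ (x₀ * y₀) := (Commute.refl x₀).mul_right hxy
  have hyt : Commute y₀ (x₀ * y₀) := hxy.symm.mul_right (Commute.refl y₀)
  have hnn : n * n = j := by rw [← sq]; exact cfg.hn2
  have h_nx : n * x₀ = y₀ * n := by rw [hy₀]; group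
  have h_ny : n * y₀ = x₀ * n := by
    calc n * y₀ = (n * n) * x₀ * n⁻¹ := by rw [hy₀]; group
      _ = j * x₀ * n⁻¹ := by rw [hnn]
      _ = x₀ * j * n⁻¹ := by rw [hxj.eq]
      _ = x₀ * (n * n) * n⁻¹ := by rw [hnn]
      _ = x₀ * n := by group
  have hnt : Commute n (x₀ * y₀) := by
    have h := (show SemiconjBy n x₀ y₀ from h_nx).mul_right (show SemiconjBy n y₀ x₀ from h_ny)
    have h' : n * (x₀ * y₀) = (y₀ * x₀) * n := h
    rw [← hxy.eq] at h'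
    exact h'
  have hxY : x₀ ∈ L₁ ⊔ L₂ := Subgroup.mem_sup_left hx₀
  have hyY : y₀ ∈ L₁ ⊔ L₂ := Subgroup.mem_sup_right hy₀L₂
  have hx₀L₂ : x₀ ∉ L₂ := by
    intro h
    have hm : x₀ ∈ L₁ ⊓ L₂ := ⟨hx₀, h⟩
    rw [cfg.meet] at hm
    have := sq_eq_one_of_mem_zpowers hj2 hm
    rw [hx₀sq] at this
    exact hj1 this
  have hnY : n ∉ L₁ ⊔ L₂ := by
    intro h
    obtain ⟨x, hx, y, hy, hxyn⟩ := mem_sup_comm cfg.comm h
    have e : y₀ = x * x₀ * x⁻¹ := by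
      rw [hy₀, hxyn, mul_inv_rev, mul_assoc x y x₀, ← cfg.comm x₀ hx₀ y hy]
      group
    have hm : y₀ ∈ L₁ ⊓ L₂ :=
      ⟨by rw [e]; exact L₁.mul_mem (L₁.mul_mem hx hx₀) (L₁.inv_mem hx), hy₀L₂⟩
    rw [cfg.meet] at hm
    have := sq_eq_one_of_mem_zpowers hj2 hm
    rw [hy₀sq] at this
    exact hj1 this
  -- distinctness
  have h_x_xinv : x₀ ≠ x₀⁻¹ := by
    intro h
    have : x₀ ^ 2 = 1 := by rw [sq]; nth_rewrite 2 [h]; exact mul_inv_cancel x₀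
    rw [hx₀sq] at this
    exact hj1 this
  have h_y_yinv : y₀ ≠ y₀⁻¹ := by
    intro h
    have : y₀ ^ 2 = 1 := by rw [sq]; nth_rewrite 2 [h]; exact mul_inv_cancel y₀
    rw [hy₀sq] at this
    exact hj1 this
  have h_x_y : x₀ ≠ y₀ := fun h => hx₀L₂ (h ▸ hy₀L₂)
  have h_x_yinv : x₀ ≠ y₀⁻¹ := fun h => hx₀L₂ (h ▸ L₂.inv_mem hy₀L₂)
  have h_xinv_y : x₀⁻¹ ≠ y₀ := fun h => hx₀L₂ (by
    have : x₀ = y₀⁻¹ := by rw [← h, inv_inv]
    rw [this]; exact L₂.inv_mem hy₀L₂)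
  have h_xinv_yinv : x₀⁻¹ ≠ y₀⁻¹ := fun h => hx₀L₂ (by
    have : x₀ = y₀ := inv_injective h
    rw [this]; exact hy₀L₂)
  have h_x_n : x₀ ≠ n := fun h => hnY (h ▸ hxY)
  have h_xinv_n : x₀⁻¹ ≠ n := fun h => hnY (h ▸ (L₁ ⊔ L₂).inv_mem hxY)
  have h_y_n : y₀ ≠ n := fun h => hnY (h ▸ hyY)
  have h_yinv_n : y₀⁻¹ ≠ n := fun h => hnY (h ▸ (L₁ ⊔ L₂).inv_mem hyY)
  rw [Nat.card_eq_fintype_card, Nat.card_eq_fintype_card, Fintype.card_subtype,
    Fintype.card_subtype]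
  set A : Finset G := Finset.univ.filter
    (fun r => r * j = j * r ∧ r * (x₀ * y₀) = (x₀ * y₀) * r ∧ r ^ 2 = x₀ * y₀) with hA
  set B : Finset G := Finset.univ.filter
    (fun r => r * j = j * r ∧ r * (x₀ * y₀) = (x₀ * y₀) * r ∧ r ^ 2 = j) with hB
  have hBmem : ∀ r : G, (r * j = j * r ∧ r * (x₀ * y₀) = (x₀ * y₀) * r ∧ r ^ 2 = j) → r ∈ B :=
    fun r h => Finset.mem_filter.mpr ⟨Finset.mem_univ r, h⟩
  have hAmem : ∀ r : G, r ∈ A →
      (r * j = j * r ∧ r * (x₀ * y₀) = (x₀ * y₀) * r ∧ r ^ 2 = x₀ * y₀) :=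
    fun r h => (Finset.mem_filter.mp h).2
  -- split A
  have h1 : (A.filter (fun r => r ∈ L₁ ⊔ L₂)).card + (A.filter (fun r => ¬ r ∈ L₁ ⊔ L₂)).card
      = A.card := Finset.card_filter_add_card_filter_not _
  have h2 : (A.filter (fun r => r ∈ L₁ ⊔ L₂)).card ≤ 4 := by
    have hsub : A.filter (fun r => r ∈ L₁ ⊔ L₂) ⊆ {a, a * j, b, b * j} := by
      intro r hr
      obtain ⟨hrA, hrY⟩ := Finset.mem_filter.mp hr
      have := hab r hrY (hAmem r hrA).2.2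
      simp only [Finset.mem_insert, Finset.mem_singleton]
      exact this
    exact (Finset.card_le_card hsub).trans Finset.card_le_four
  -- the image
  have hN : ∀ s ∈ A.filter (fun r => ¬ r ∈ L₁ ⊔ L₂),
      (s * x₀) ^ 2 = j ∧ s * x₀ ≠ n ∧ s * x₀ ∉ L₁ ⊔ L₂ ∧ s * x₀ ∈ B := by
    intro s hs
    obtain ⟨hsA, hsY⟩ := Finset.mem_filter.mp hs
    obtain ⟨hsj, hst, hs2⟩ := hAmem s hsA
    have hsC : s ∈ Subgroup.centralizer ({j} : Set G) := by
      rw [Subgroup.mem_centralizer_iff]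
      intro h hh
      rw [Set.mem_singleton_iff] at hh
      rw [hh]
      exact hsj.symm
    obtain ⟨hp1, hp2⟩ := hPhi s hsC hsY hst hs2
    have hsxY : s * x₀ ∉ L₁ ⊔ L₂ := by
      intro h
      apply hsY
      have : s = s * x₀ * x₀⁻¹ := by group
      rw [this]
      exact (L₁ ⊔ L₂).mul_mem h ((L₁ ⊔ L₂).inv_mem hxY)
    refine ⟨hp1, hp2, hsxY, hBmem _ ⟨?_, ?_, hp1⟩⟩
    · exact ((show Commute s j from hsj).mul_left hxj).eq
    · exact ((show Commute s (x₀ * y₀) from hst).mul_left hxt).eq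
  have hT5 : ({x₀, x₀⁻¹, y₀, y₀⁻¹, n} : Finset G).card = 5 := by
    have e4 : ({y₀⁻¹, n} : Finset G).card = 2 := by
      rw [Finset.card_insert_of_notMem (by
        simp only [Finset.mem_singleton]; exact h_yinv_n), Finset.card_singleton]
    have e3 : ({y₀, y₀⁻¹, n} : Finset G).card = 3 := by
      rw [Finset.card_insert_of_notMem (by
        simp only [Finset.mem_insert, Finset.mem_singleton, not_or]
        exact ⟨h_y_yinv, h_y_n⟩), e4]
    have e2 : ({x₀⁻¹, y₀, y₀⁻¹, n} : Finset G).card = 4 := by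
      rw [Finset.card_insert_of_notMem (by
        simp only [Finset.mem_insert, Finset.mem_singleton, not_or]
        exact ⟨h_xinv_y, h_xinv_yinv, h_xinv_n⟩), e3]
    rw [Finset.card_insert_of_notMem (by
      simp only [Finset.mem_insert, Finset.mem_singleton, not_or]
      exact ⟨h_x_xinv, h_x_y, h_x_yinv, h_x_n⟩), e2]
  have hTB : ({x₀, x₀⁻¹, y₀, y₀⁻¹, n} : Finset G) ⊆ B := by
    intro r hr
    simp only [Finset.mem_insert, Finset.mem_singleton] at hr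
    rcases hr with h | h | h | h | h
    · rw [h]; exact hBmem _ ⟨hxj.eq, hxt.eq, hx₀sq⟩
    · rw [h]; exact hBmem _ ⟨hxj.inv_left.eq, hxt.inv_left.eq, by rw [inv_pow, hx₀sq, hjinv]⟩
    · rw [h]; exact hBmem _ ⟨hyj.eq, hyt.eq, hy₀sq⟩
    · rw [h]; exact hBmem _ ⟨hyj.inv_left.eq, hyt.inv_left.eq, by rw [inv_pow, hy₀sq, hjinv]⟩
    · rw [h]; exact hBmem _ ⟨hnj.eq, hnt.eq, cfg.hn2⟩
  have hIB : (A.filter (fun r => ¬ r ∈ L₁ ⊔ L₂)).image (fun r => r * x₀) ⊆ B := by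
    intro r hr
    obtain ⟨s, hs, rfl⟩ := Finset.mem_image.mp hr
    exact (hN s hs).2.2.2
  have hdisj : Disjoint ({x₀, x₀⁻¹, y₀, y₀⁻¹, n} : Finset G)
      ((A.filter (fun r => ¬ r ∈ L₁ ⊔ L₂)).image (fun r => r * x₀)) := by
    rw [Finset.disjoint_left]
    intro r hrT hrI
    obtain ⟨s, hs, rfl⟩ := Finset.mem_image.mp hrI
    obtain ⟨-, hne, hnotY, -⟩ := hN s hs
    simp only [Finset.mem_insert, Finset.mem_singleton] at hrT
    rcases hrT with h | h | h | h | h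
    · exact hnotY (by rw [h]; exact hxY)
    · exact hnotY (by rw [h]; exact (L₁ ⊔ L₂).inv_mem hxY)
    · exact hnotY (by rw [h]; exact hyY)
    · exact hnotY (by rw [h]; exact (L₁ ⊔ L₂).inv_mem hyY)
    · exact hne h
  have h3 : (({x₀, x₀⁻¹, y₀, y₀⁻¹, n} : Finset G) ∪
      (A.filter (fun r => ¬ r ∈ L₁ ⊔ L₂)).image (fun r => r * x₀)).card
      = 5 + (A.filter (fun r => ¬ r ∈ L₁ ⊔ L₂)).card := by
    rw [Finset.card_union_of_disjoint hdisj, hT5,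
      Finset.card_image_of_injective _ (mul_left_injective x₀)]
  have h4 := Finset.card_le_card (Finset.union_subset hTB hIB)
  omega

end Cfsg.Agent.Lib.Helper16.FW
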